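import Cfsg.Agent.CyclicInter.Main
import Cfsg.Agent.Coprime.Fitting

/-!
The solvable radical of a nonsolvable group with cyclic Sylow 2-intersections.
-/

set_option autoImplicit false
set_option linter.style.haveILetI false
set_option linter.unusedSectionVars false

namespace Cfsg.Lib.CyclicInter

open Subgroup Pointwise

variable {G : Type*} [Group G] [Finite G]

theorem cyclic_of_normal (hns : ¬ Group.IsSolvable G) (hC : CycInter G) (V : Subgroup G) [V.Normal]
    (hV : IsPGroup 2 V) : IsCyclic V := by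
  obtain ⟨S⟩ : Nonempty (Sylow 2 G) := inferInstance
  obtain ⟨T, hT⟩ := exists_ne hns S
  haveI := hC S T (Ne.symm hT)
  have hle : V ≤ (S : Subgroup G) ⊓ (T : Subgroup G) := fun x hx =>
    ⟨mem_of_normal hV S hx, mem_of_normal hV T hx⟩
  exact isCyclic_of_injective (Subgroup.inclusion hle) (Subgroup.inclusion_injective hle)

theorem isPGroup_of_solvable (hns : ¬ Group.IsSolvable G) (hC : CycInter G)
    (hO : pPrimeCore 2 G = ⊥) (N : Subgroup G) [N.Normal] (hN : Group.IsSolvable N) :
    IsPGroup 2 N := by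
  haveI : Fact (Nat.Prime 2) := ⟨Nat.prime_two⟩
  haveI := hN
  have hON : pPrimeCore 2 N = ⊥ := by
    haveI : ((pPrimeCore 2 N).map N.subtype).Normal := ConjAct.normal_of_characteristic_of_normal
    have h : (pPrimeCore 2 N).map N.subtype ≤ pPrimeCore 2 G :=
      Cfsg.Lib.Components.le_pPrimeCore (by
        rw [card_map_of_injective N.subtype_injective]
        exact Cfsg.Lib.Components.coprime_card_pPrimeCore 2)
    rw [hO, le_bot_iff, map_eq_bot_iff_of_injective _ N.subtype_injective] at h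
    exact h
  set F := (pCore 2 N).map N.subtype with hF
  haveI : F.Normal := ConjAct.normal_of_characteristic_of_normal
  have hF2 : IsPGroup 2 F := (Cfsg.Lib.Components.isPGroup_pCore 2).map _
  have hcen := Cfsg.Lib.Coprime.centralizer_pCore_le (G := N) 2 hON
  intro x
  obtain ⟨n, hn⟩ := exists_pow_mem_centralizer hF2 (cyclic_of_normal hns hC F hF2) (x : G)
  have hmem : x ^ 2 ^ n ∈ pCore 2 N := hcen (mem_centralizer_iff.2 fun y hy => Subtype.ext (by
    simpa using mem_centralizer_iff.1 hn (y : G) ⟨y, hy, rfl⟩))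
  obtain ⟨m, hm⟩ := Cfsg.Lib.Components.isPGroup_pCore (G := N) 2 ⟨x ^ 2 ^ n, hmem⟩
  refine ⟨n + m, ?_⟩
  rw [pow_add, pow_mul]
  exact congrArg Subtype.val hm

theorem le_center (hns : ¬ Group.IsSolvable G) (hC : CycInter G)
    (hO : pPrimeCore 2 G = ⊥) (V : Subgroup G) [hVn : V.Normal] (hV : IsPGroup 2 V) :
    V ≤ center G := by
  haveI : Fact (Nat.Prime 2) := ⟨Nat.prime_two⟩
  have hVc := cyclic_of_normal hns hC V hV
  haveI := hVc
  intro x hx
  rw [mem_center_iff]
  intro g
  by_contra hne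
  -- a generator has order at least four
  obtain ⟨a, ha⟩ := IsCyclic.exists_generator (α := V)
  obtain ⟨k, hk⟩ := IsPGroup.iff_orderOf.1 hV a
  have hk2 : 2 ≤ k := by
    by_contra hlt
    apply hne
    have hVcard : Nat.card V ≤ 2 := by
      rw [← orderOf_eq_card_of_forall_mem_zpowers ha, hk]
      calc 2 ^ k ≤ 2 ^ 1 := Nat.pow_le_pow_right two_pos (by omega)
        _ = 2 := pow_one 2
    have hconj : g * x * g⁻¹ ∈ V := hVn.conj_mem x hx g
    by_contra hne'
    have h3 : ({1, ⟨x, hx⟩, ⟨g * x * g⁻¹, hconj⟩} : Set V).ncard = 3 := by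
      rw [Set.ncard_eq_three]
      refine ⟨_, _, _, fun h => ?_, fun h => ?_, fun h => ?_, rfl⟩
      · have : x = 1 := (congrArg Subtype.val h).symm
        simp [this] at hne'
      · have h' : g * x * g⁻¹ = 1 := (congrArg Subtype.val h).symm
        have : x = 1 := by rwa [mul_inv_eq_one, mul_eq_left] at h'
        simp [this] at hne'
      · exact hne' (mul_inv_eq_iff_eq_mul.1 (congrArg Subtype.val h).symm)
    have := Set.ncard_le_ncard (Set.subset_univ ({1, ⟨x, hx⟩, ⟨g * x * g⁻¹, hconj⟩} : Set V))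
    rw [Set.ncard_univ, h3] at this
    omega
  obtain ⟨i, rfl⟩ : ∃ i, k = i + 2 := ⟨k - 2, by omega⟩
  have hv4 : orderOf ((a ^ 2 ^ i : V) : G) = 4 := by
    rw [Subgroup.orderOf_coe, orderOf_pow' _ (by positivity), hk,
      Nat.gcd_eq_right (pow_dvd_pow 2 (Nat.le_add_right i 2)), pow_add,
      Nat.mul_div_cancel_left _ (by positivity)]
    norm_num
  let D : Setup G := ⟨hC, V, hVn, hV, hVc, ((a ^ 2 ^ i : V) : G), (a ^ 2 ^ i).2, hv4⟩
  refine D.false_of_setup hns (fun N hN hs => ?_) fun htop => hne ?_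
  · haveI := hN
    exact isPGroup_of_solvable hns hC hO N hs
  · exact (mem_centralizer_iff.1 (show g ∈ D.C from htop ▸ mem_top g) x hx).symm

theorem cycInter_quotient (hC : CycInter G) (K : Subgroup G) [K.Normal]
    (hK : (Nat.card K).Coprime 2) : CycInter (G ⧸ K) := by
  haveI : Fact (Nat.Prime 2) := ⟨Nat.prime_two⟩
  set q := QuotientGroup.mk' K with hq
  intro S' T' hne
  set D := (S' : Subgroup (G ⧸ K)) ⊓ (T' : Subgroup (G ⧸ K)) with hD
  have hlift : ∀ (R : Sylow 2 (G ⧸ K)) (X : Subgroup G), IsPGroup 2 X → X.map q ≤ R →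
      ∃ R₁ : Sylow 2 G, X ≤ R₁ ∧ (R₁ : Subgroup G).map q = R := by
    intro R X hX hXR
    set Y := (R : Subgroup (G ⧸ K)).comap q with hY
    have hXY : X ≤ Y := map_le_iff_le_comap.1 hXR
    obtain ⟨P, hP⟩ := (IsPGroup.comap_subtype (K := Y) hX).exists_le_sylow
    set R₀ := (P : Subgroup Y).map Y.subtype with hR₀
    have hcY : Nat.card Y = Nat.card K * Nat.card R := Cfsg.Lib.Coprime.card_comap_mk' _
    have hPc : Nat.card (P : Subgroup Y) = Nat.card R := by
      obtain ⟨j, hj⟩ := R.2.exists_card_eq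
      rw [P.card_eq_multiplicity, hcY, hj, Nat.factorization_mul Nat.card_pos.ne' (by positivity),
        Finsupp.add_apply, Nat.factorization_eq_zero_of_not_dvd fun h =>
          (Nat.prime_two.coprime_iff_not_dvd.1 hK.symm) h, zero_add,
        Nat.Prime.factorization_pow Nat.prime_two, Finsupp.single_eq_same]
    have hR₀c : Nat.card R₀ = 2 ^ (Nat.card G).factorization 2 := by
      rw [hR₀, card_map_of_injective Y.subtype_injective, hPc, R.card_eq_multiplicity]
      congr 1
      rw [Subgroup.card_eq_card_quotient_mul_card_subgroup K,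
        Nat.factorization_mul Nat.card_pos.ne' Nat.card_pos.ne', Finsupp.add_apply,
        Nat.factorization_eq_zero_of_not_dvd fun h =>
          (Nat.prime_two.coprime_iff_not_dvd.1 hK.symm) h, add_zero]
    refine ⟨Sylow.ofCard R₀ hR₀c, ?_, ?_⟩
    · intro x hx
      exact ⟨⟨x, hXY hx⟩, hP hx, rfl⟩
    · apply Subgroup.eq_of_le_of_card_ge
      · show R₀.map q ≤ R
        rw [map_le_iff_le_comap]
        exact map_subtype_le _
      · show Nat.card R ≤ Nat.card (R₀.map q)
        rw [← hPc, ← card_map_of_injective Y.subtype_injective, ← hR₀]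
        refine Nat.card_le_card_of_injective (fun x : R₀ => (⟨q x, x, x.2, rfl⟩ : R₀.map q)) ?_
        intro a b hab
        have h : q a = q b := congrArg Subtype.val hab
        rw [hq, QuotientGroup.mk'_apply, QuotientGroup.mk'_apply, QuotientGroup.eq] at h
        have h1 : (a : G)⁻¹ * b ∈ R₀ := mul_mem (inv_mem a.2) b.2
        have hcop : (Nat.card R₀).Coprime (Nat.card K) := by
          rw [hR₀c]; exact Nat.Coprime.pow_left _ hK.symm
        exact Subtype.ext (inv_mul_eq_one.1
          (mem_bot.1 ((Subgroup.inf_eq_bot_of_coprime hcop) ▸ mem_inf.2 ⟨h1, h⟩)))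
  set Y := D.comap q with hY
  obtain ⟨P⟩ : Nonempty (Sylow 2 Y) := inferInstance
  set D₀ := (P : Subgroup Y).map Y.subtype with hD₀
  have hD₀p : IsPGroup 2 D₀ := P.2.map _
  have hsurj : D₀.map q = D := by
    have hqY : D = Y.map q := (map_comap_eq_self_of_surjective (QuotientGroup.mk'_surjective K) D).symm
    let f := q.subgroupComap D
    have hf : Function.Surjective f := fun d => by
      obtain ⟨x, hx⟩ := QuotientGroup.mk'_surjective K d.1
      exact ⟨⟨x, by rw [mem_comap, hx]; exact d.2⟩, Subtype.ext hx⟩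
    have hmap : ((P : Subgroup Y).map f) = ⊤ := by
      have hp : IsPGroup 2 D := S'.2.to_le inf_le_left
      obtain ⟨j, hj⟩ := hp.exists_card_eq
      apply Subgroup.index_eq_one.1
      have h1 : ((P : Subgroup Y).map f).index ∣ (P : Subgroup Y).index :=
        Subgroup.index_map_dvd _ hf
      have h2 : ((P : Subgroup Y).map f).index ∣ 2 ^ j := hj ▸ Subgroup.index_dvd_card _
      refine Nat.eq_one_of_dvd_coprimes ?_ h2 h1
      exact Nat.Coprime.pow_left _ (Nat.prime_two.coprime_iff_not_dvd.2 P.not_dvd_index)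
    refine le_antisymm ?_ fun d hd => ?_
    · rw [hqY, hD₀]; exact map_mono (map_subtype_le _)
    · obtain ⟨x, hx, hfx⟩ := hmap.ge (mem_top (⟨d, hd⟩ : D))
      exact ⟨x, ⟨x, hx, rfl⟩, congrArg Subtype.val hfx⟩
  obtain ⟨S₁, hS₁, hS₁m⟩ := hlift S' D₀ hD₀p (hsurj.le.trans inf_le_left)
  obtain ⟨T₁, hT₁, hT₁m⟩ := hlift T' D₀ hD₀p (hsurj.le.trans inf_le_right)
  have hne1 : S₁ ≠ T₁ := by
    rintro rfl
    exact hne (Sylow.ext (hS₁m.symm.trans hT₁m))
  haveI := hC S₁ T₁ hne1
  haveI : IsCyclic D₀ :=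
    isCyclic_of_injective (Subgroup.inclusion (le_inf hS₁ hT₁)) (Subgroup.inclusion_injective _)
  rw [← hsurj]
  exact isCyclic_of_surjective (q.subgroupMap D₀) (MonoidHom.subgroupMap_surjective q D₀)

theorem image_cyclic_central (hns : ¬ Group.IsSolvable G) (hC : CycInter G) (N : Subgroup G)
    [N.Normal] (hN : Group.IsSolvable N) :
    IsCyclic ↥(N.map (QuotientGroup.mk' (Cfsg.oddCore G))) ∧
      IsPGroup 2 ↥(N.map (QuotientGroup.mk' (Cfsg.oddCore G))) ∧
      N.map (QuotientGroup.mk' (Cfsg.oddCore G)) ≤ center (G ⧸ Cfsg.oddCore G) := by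
  haveI : Fact (Nat.Prime 2) := ⟨Nat.prime_two⟩
  set O := pPrimeCore 2 G with hO
  have hOc : (Nat.card O).Coprime 2 := Cfsg.Lib.Components.coprime_card_pPrimeCore 2
  have hns' : ¬ Group.IsSolvable (G ⧸ O) := by
    intro h
    apply hns
    haveI : Group.IsSolvable O :=
      Cfsg.Agent.PF.isSolvable_of_odd O (Nat.coprime_two_right.1 hOc)
    exact Group.isSolvable_of_ker_le_range O.subtype (QuotientGroup.mk' O) (by simp)
  have hC' : CycInter (G ⧸ O) := cycInter_quotient hC O hOc
  haveI : (N.map (QuotientGroup.mk' O)).Normal :=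
    Subgroup.Normal.map inferInstance _ (QuotientGroup.mk'_surjective O)
  haveI : Group.IsSolvable ↥(N.map (QuotientGroup.mk' O)) :=
    Group.isSolvable_of_surjective (MonoidHom.subgroupMap_surjective (QuotientGroup.mk' O) N)
  have hO' : pPrimeCore 2 (G ⧸ O) = ⊥ := Cfsg.Lib.Coprime.pPrimeCore_quotient_eq_bot
  have h2 := isPGroup_of_solvable hns' hC' hO' (N.map (QuotientGroup.mk' O)) inferInstance
  exact ⟨cyclic_of_normal hns' hC' _ h2, h2, le_center hns' hC' hO' _ h2⟩

end Cfsg.Lib.CyclicInter
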