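import Cfsg.Agent.Coprime.SolvableBasics

/-!
A noncyclic 2-group with a central element of order four has an involution, other than the
square of that element, whose conjugates differ from it by that square only.
-/

set_option autoImplicit false
set_option linter.style.haveILetI false
set_option linter.unusedSectionVars false

namespace Cfsg.Lib.CyclicInter

open Subgroup

variable {P : Type*} [Group P] [Finite P]

theorem exists_first_pow (hP : IsPGroup 2 P) (A : Subgroup P) {x : P} (hx : x ∉ A) :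
    ∃ k : ℕ, x ^ 2 ^ k ∉ A ∧ (x ^ 2 ^ k) ^ 2 ∈ A := by
  classical
  have hex : ∃ k : ℕ, x ^ 2 ^ k ∈ A := by
    obtain ⟨k, hk⟩ := hP x
    exact ⟨k, hk.symm ▸ one_mem A⟩
  have hpos : Nat.find hex ≠ 0 := by
    intro h0
    have := Nat.find_spec hex
    rw [h0, pow_zero, pow_one] at this
    exact hx this
  obtain ⟨k, hk⟩ := Nat.exists_eq_succ_of_ne_zero hpos
  refine ⟨k, Nat.find_min hex (by omega), ?_⟩
  have := Nat.find_spec hex
  rwa [hk, pow_succ, pow_mul] at this

theorem odd_pow_generates (hP : IsPGroup 2 P) (a : P) {m : ℕ} (hm : Odd m) :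
    a ∈ zpowers (a ^ m) := by
  obtain ⟨k, hk⟩ := IsPGroup.iff_orderOf.1 hP a
  have hcop : (orderOf a).Coprime m := by
    rw [hk]
    exact Nat.Coprime.pow_left _ (Nat.coprime_two_left.2 hm)
  obtain ⟨n, hn⟩ := exists_pow_eq_self_of_coprime (x := a) hcop.symm
  exact mem_zpowers_iff.2 ⟨n, by simpa using hn⟩

/-- An abelian 2-group of elements with a single involution is cyclic. -/
theorem eq_zpowers_of_unique (hP : IsPGroup 2 P) (A : Subgroup P) [IsMulCommutative A] {z : P}
    (h : ∀ x ∈ A, x ^ 2 = 1 → x = 1 ∨ x = z) : ∃ a : P, A = zpowers a := by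
  classical
  haveI := Fintype.ofFinite P
  obtain ⟨a, haF, hmax⟩ := Finset.exists_max_image (Finset.univ.filter fun x : P => x ∈ A) orderOf
    ⟨1, by simp⟩
  have ha : a ∈ A := (Finset.mem_filter.1 haF).2
  refine ⟨a, le_antisymm (fun x hx => ?_) (zpowers_le.2 ha)⟩
  by_contra hxa
  obtain ⟨k, hy, hy2⟩ := exists_first_pow hP (zpowers a) hxa
  set y := x ^ 2 ^ k with hydef
  have hyA : y ∈ A := pow_mem hx _
  obtain ⟨n, hn⟩ := mem_powers_iff_mem_zpowers.2 hy2
  simp only at hn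
  have hc : Commute y a :=
    congrArg Subtype.val (mul_comm' (⟨y, hyA⟩ : A) ⟨a, ha⟩)
  rcases Nat.even_or_odd' n with ⟨l, rfl | rfl⟩
  · set w := y * (a ^ l)⁻¹ with hw
    have hw2 : w ^ 2 = 1 := by
      rw [hw, (hc.pow_right l).inv_right.mul_pow, inv_pow, ← pow_mul a l 2, mul_comm l 2, hn,
        mul_inv_cancel]
    have hwA : w ∈ A := mul_mem hyA (inv_mem (pow_mem ha _))
    have hwa : w ∉ zpowers a := fun hwm => hy (by
      have := mul_mem hwm (pow_mem (mem_zpowers a) l)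
      rwa [hw, inv_mul_cancel_right] at this)
    have ha1 : a ≠ 1 := by
      intro h1
      have hy1 : y ^ 2 = 1 := by simpa [h1] using hy2
      have hyne : y ≠ 1 := fun h0 => hy (h0.symm ▸ one_mem _)
      have := hmax y (by simp [hyA])
      rw [h1, orderOf_one] at this
      exact hyne (orderOf_eq_one_iff.1 (le_antisymm this (orderOf_pos y)))
    obtain ⟨j, hj⟩ := IsPGroup.iff_orderOf.1 hP a
    have hj0 : j ≠ 0 := fun h0 => ha1 (orderOf_eq_one_iff.1 (by simpa [h0] using hj))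
    obtain ⟨j, rfl⟩ := Nat.exists_eq_succ_of_ne_zero hj0
    have hinv : orderOf (a ^ 2 ^ j) = 2 := by
      rw [orderOf_pow' _ (by positivity), hj, Nat.gcd_eq_right (pow_dvd_pow 2 (Nat.le_succ j))]
      rw [pow_succ, Nat.mul_div_cancel_left _ (by positivity)]
    have h2 : (a ^ 2 ^ j) ^ 2 = 1 := orderOf_dvd_iff_pow_eq_one.1 (by rw [hinv])
    have hne1 : a ^ 2 ^ j ≠ 1 := fun h1 => by rw [h1, orderOf_one] at hinv; omega
    rcases h w hwA hw2 with h1 | h1
    · exact hwa (h1.symm ▸ one_mem _)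
    · rcases h _ (pow_mem ha _) h2 with h3 | h3
      · exact hne1 h3
      · exact hwa (h1 ▸ h3 ▸ pow_mem (mem_zpowers a) _)
  · have hgen : a ∈ zpowers (y ^ 2) := by
      rw [← hn]
      exact odd_pow_generates hP a ⟨l, rfl⟩
    have hle : zpowers a ≤ zpowers (y ^ 2) := zpowers_le.2 hgen
    have hoa : orderOf (y ^ 2) = orderOf a := by
      rw [← Nat.card_zpowers, ← Nat.card_zpowers, le_antisymm (zpowers_le.2 hy2) hle]
    have hyne : y ≠ 1 := fun h0 => hy (h0.symm ▸ one_mem _)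
    obtain ⟨j, hj⟩ := IsPGroup.iff_orderOf.1 hP y
    have hj0 : j ≠ 0 := fun h0 => hyne (orderOf_eq_one_iff.1 (by simpa [h0] using hj))
    obtain ⟨j, rfl⟩ := Nat.exists_eq_succ_of_ne_zero hj0
    have hlt : orderOf a < orderOf y := by
      rw [← hoa, orderOf_pow' _ two_ne_zero, hj, Nat.gcd_eq_right (dvd_pow_self 2 (Nat.succ_ne_zero j)),
        pow_succ, Nat.mul_div_cancel _ two_pos]
      have : 0 < 2 ^ j := by positivity
      omega
    exact absurd (hmax y (by simp [hyA])) (not_le.2 hlt)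

/-- See the module docstring. -/
theorem exists_involution_fixed_mod (hP : IsPGroup 2 P) (hnc : ¬ IsCyclic P) {v : P}
    (hv : v ∈ center P) (hv4 : orderOf v = 4) :
    ∃ f : P, f ^ 2 = 1 ∧ f ≠ 1 ∧ f ≠ v ^ 2 ∧ ∀ s : P, s * f * s⁻¹ = f ∨ s * f * s⁻¹ = f * v ^ 2 := by
  classical
  haveI : Fact (Nat.Prime 2) := ⟨Nat.prime_two⟩
  haveI : Group.IsNilpotent P := hP.isNilpotent
  set z := v ^ 2 with hz
  have hz2 : z ^ 2 = 1 := by
    rw [hz, ← pow_mul]
    exact orderOf_dvd_iff_pow_eq_one.1 (by rw [hv4])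
  have hz1 : z ≠ 1 := fun h => by
    have := orderOf_dvd_of_pow_eq_one (n := 2) (x := v) h
    rw [hv4] at this
    exact absurd (Nat.le_of_dvd two_pos this) (by omega)
  have hzc : z ∈ center P := pow_mem hv 2
  obtain ⟨A, ⟨hAn, hAc, hvA⟩, hmax⟩ := WellFounded.has_min
    (IsWellFounded.wf (r := ((· > ·) : Subgroup P → Subgroup P → Prop)))
    {A | A.Normal ∧ IsMulCommutative A ∧ v ∈ A}
    ⟨center P, inferInstance, inferInstance, hv⟩
  haveI := hAn
  haveI := hAc
  have hCA : centralizer (A : Set P) = A :=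
    Cfsg.Lib.Coprime.centralizer_eq_of_maximal_abelian A fun M hMn hMc hAM =>
      (hAM.lt_or_eq.resolve_left fun hlt => hmax M ⟨hMn, hMc, hAM hvA⟩ hlt).symm
  by_cases hu : ∀ x ∈ A, x ^ 2 = 1 → x = 1 ∨ x = z
  · obtain ⟨a, hAa⟩ := eq_zpowers_of_unique hP A hu
    have haA : a ∈ A := hAa ▸ mem_zpowers a
    have hAtop : A ≠ ⊤ := fun h => hnc ⟨⟨a, fun x => mem_zpowers_iff.1 (hAa ▸ h ▸ mem_top x)⟩⟩
    obtain ⟨x₀, -, hx₀⟩ := SetLike.exists_of_lt (lt_top_iff_ne_top.2 hAtop)
    obtain ⟨k₀, htA, ht2⟩ := exists_first_pow hP A hx₀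
    set t := x₀ ^ 2 ^ k₀ with htdef
    have hcomm : ∀ x ∈ A, ∀ y ∈ A, x * y = y * x := fun x hx y hy =>
      congrArg Subtype.val (mul_comm' (⟨x, hx⟩ : A) ⟨y, hy⟩)
    have hfix4 : ∀ c ∈ A, c ^ 2 = z → c ∈ center P := by
      intro c hc hc2
      have hcz : (c * v⁻¹) ^ 2 = 1 := by
        rw [(show Commute c v from mem_center_iff.1 hv c).inv_right.mul_pow, inv_pow, hc2, hz,
          mul_inv_cancel]
      rcases hu _ (mul_mem hc (inv_mem hvA)) hcz with h | h
      · rw [eq_of_mul_inv_eq_one h]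
        exact hv
      · rw [mul_inv_eq_iff_eq_mul] at h
        exact h ▸ mul_mem hzc hv
    have hd : ∀ x ∈ A, t * x * t⁻¹ = x ∨ t * x * t⁻¹ = x * z := by
      intro x hx
      set y := t * x * t⁻¹ with hy
      have hyA : y ∈ A := hAn.conj_mem x hx t
      have htt : t * y * t⁻¹ = x := by
        rw [hy, show t * (t * x * t⁻¹) * t⁻¹ = t ^ 2 * x * (t ^ 2)⁻¹ by
            simp only [pow_two, mul_inv_rev, mul_assoc],
          hcomm _ ht2 _ hx, mul_inv_cancel_right]
      set d := x⁻¹ * y with hdd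
      have hdA : d ∈ A := mul_mem (inv_mem hx) hyA
      have htd : t * d * t⁻¹ = d⁻¹ := by
        rw [hdd, show t * (x⁻¹ * y) * t⁻¹ = (t * x * t⁻¹)⁻¹ * (t * y * t⁻¹) by group, htt, ← hy]
        group
      have hd2 : d ^ 2 = 1 := by
        by_contra hd2
        obtain ⟨j, hj⟩ := IsPGroup.iff_orderOf.1 hP d
        have hj2 : 2 ≤ j := by
          by_contra hlt
          apply hd2
          apply orderOf_dvd_iff_pow_eq_one.1
          rw [hj]
          calc 2 ^ j ∣ 2 ^ 1 := pow_dvd_pow 2 (by omega)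
            _ = 2 := pow_one 2
        obtain ⟨i, rfl⟩ : ∃ i, j = i + 2 := ⟨j - 2, by omega⟩
        set e := d ^ 2 ^ i with he
        have he4 : orderOf e = 4 := by
          rw [he, orderOf_pow' _ (by positivity), hj,
            Nat.gcd_eq_right (pow_dvd_pow 2 (Nat.le_add_right i 2)), pow_add,
            Nat.mul_div_cancel_left _ (by positivity)]
          norm_num
        have he2 : e ^ 2 = z := by
          refine (hu _ (pow_mem (pow_mem hdA _) _) ?_).resolve_left fun h => ?_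
          · rw [← he, ← pow_mul]
            exact orderOf_dvd_iff_pow_eq_one.1 (by rw [he4])
          · have := orderOf_dvd_of_pow_eq_one h
            rw [he4] at this
            exact absurd (Nat.le_of_dvd two_pos this) (by omega)
        have hte : t * e * t⁻¹ = e⁻¹ := by
          rw [he, ← conj_pow, htd, inv_pow]
        rw [mem_center_iff.1 (hfix4 e (pow_mem hdA _) he2) t, mul_inv_cancel_right] at hte
        have : e ^ 2 = 1 := by
          rw [pow_two]
          nth_rw 2 [hte]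
          exact mul_inv_cancel e
        exact hz1 (he2 ▸ this)
      rcases hu d hdA hd2 with h | h
      · exact Or.inl (inv_mul_eq_one.1 h).symm
      · exact Or.inr (eq_mul_of_inv_mul_eq h)
    have hta : t * a * t⁻¹ = a * z := by
      refine (hd a haA).resolve_left fun h => htA (hCA ▸ mem_centralizer_iff.2 fun y hy => ?_)
      obtain ⟨n, rfl⟩ := mem_zpowers_iff.1 (hAa ▸ hy : y ∈ zpowers a)
      have hc : Commute t a := mul_inv_eq_iff_eq_mul.1 h
      exact (hc.zpow_right n).symm.eq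
    obtain ⟨n, hn⟩ := mem_powers_iff_mem_zpowers.2 (hAa ▸ ht2 : t ^ 2 ∈ zpowers a)
    simp only at hn
    have hzn : z ^ n = 1 := by
      have h1 : t * (t ^ 2) * t⁻¹ = t ^ 2 := by group
      rw [← hn, ← conj_pow, hta, (show Commute a z from mem_center_iff.1 hzc a).mul_pow] at h1
      exact mul_left_cancel (h1.trans (mul_one _).symm)
    obtain ⟨l, hl⟩ : 2 ∣ n := by
      have := orderOf_dvd_of_pow_eq_one hzn
      rwa [orderOf_eq_prime hz2 hz1] at this
    obtain ⟨j, hj⟩ := IsPGroup.iff_orderOf.1 hP a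
    obtain ⟨w, hw⟩ := mem_powers_iff_mem_zpowers.2 (hAa ▸ hvA : v ∈ zpowers a)
    simp only at hw
    have hw2 : Even w := by
      by_contra hodd
      have := odd_pow_generates hP a (Nat.not_even_iff_odd.1 hodd)
      rw [hw] at this
      obtain ⟨i, hi⟩ := mem_zpowers_iff.1 this
      have hac : a ∈ center P := hi ▸ zpow_mem hv i
      rw [mem_center_iff.1 hac t, mul_inv_cancel_right] at hta
      exact hz1 (mul_left_cancel (hta.symm.trans (mul_one a).symm))
    obtain ⟨u, rfl⟩ := hw2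
    have hzu : z = a ^ (4 * u) := by
      rw [hz, ← hw, ← pow_mul]
      ring_nf
    obtain ⟨k, hk⟩ := mem_powers_iff_mem_zpowers.2
      ((zpowers_le.2 (odd_pow_generates hP a (m := 1 + 2 * u) ⟨u, by omega⟩)) 
        (inv_mem (pow_mem (mem_zpowers a) l)))
    simp only at hk
    set b := t * a ^ k with hb
    have hb2 : b ^ 2 = 1 := by
      rw [hb, show (t * a ^ k) ^ 2 = (t * a ^ k * t⁻¹) * t ^ 2 * a ^ k by
          simp only [pow_two, mul_assoc, inv_mul_cancel_left], ← conj_pow, hta,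
        ← hn, hl, hzu, ← pow_succ', ← pow_mul, ← pow_add, ← pow_add]
      have e : (a ^ (1 + 2 * u)) ^ k * a ^ l = 1 := by rw [hk, inv_mul_cancel]
      rw [← pow_mul, ← pow_add] at e
      rw [show (4 * u + 1) * k + 2 * l + k = 2 * ((1 + 2 * u) * k + l) by ring, mul_comm, pow_mul,
        e, one_pow]
    have hbA : b ∉ A := fun h => htA (by
      have := mul_mem h (inv_mem (pow_mem haA k))
      rwa [hb, mul_inv_cancel_right] at this)
    refine ⟨b, hb2, fun h => hbA (h.symm ▸ one_mem A), fun h => hbA (h.symm ▸ pow_mem hvA 2),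
      fun s => ?_⟩
    have hbb : b * b = 1 := by rw [← pow_two, hb2]
    have hbinv : b⁻¹ = b := inv_eq_of_mul_eq_one_right hbb
    have hbx : ∀ x ∈ A, b * x * b⁻¹ = t * x * t⁻¹ := by
      intro x hx
      rw [hb, show t * a ^ k * x * (t * a ^ k)⁻¹ = t * (a ^ k * x * (a ^ k)⁻¹) * t⁻¹ by group,
        hcomm _ (pow_mem haA k) _ hx, mul_inv_cancel_right]
    have hsa : ∀ g : P, ∃ i : ℤ, g * a * g⁻¹ = a ^ i := fun g => by
      obtain ⟨i, hi⟩ := mem_zpowers_iff.1 (hAa ▸ hAn.conj_mem a haA g)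
      exact ⟨i, hi.symm⟩
    set c := b⁻¹ * (s * b * s⁻¹) with hc
    have hcA : c ∈ A := by
      rw [← hCA]
      refine mem_centralizer_iff.2 fun y hy => ?_
      obtain ⟨n, rfl⟩ := mem_zpowers_iff.1 (hAa ▸ hy : y ∈ zpowers a)
      obtain ⟨i₁, hi₁⟩ := hsa b
      obtain ⟨i₂, hi₂⟩ := hsa s⁻¹
      have hswap : (b * s⁻¹) * a * (b * s⁻¹)⁻¹ = (s⁻¹ * b) * a * (s⁻¹ * b)⁻¹ := by
        rw [show (b * s⁻¹) * a * (b * s⁻¹)⁻¹ = b * (s⁻¹ * a * s⁻¹⁻¹) * b⁻¹ by group,
          show (s⁻¹ * b) * a * (s⁻¹ * b)⁻¹ = s⁻¹ * (b * a * b⁻¹) * s⁻¹⁻¹ by group, hi₁, hi₂,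
          ← conj_zpow, ← conj_zpow, hi₁, hi₂, ← zpow_mul, ← zpow_mul, mul_comm]
      have hca : Commute c a := by
        have h1 : (s⁻¹ * b)⁻¹ * ((b * s⁻¹) * a * (b * s⁻¹)⁻¹) * (s⁻¹ * b) = a := by
          rw [hswap]; group
        have h2 : c * a * c⁻¹ = a := by
          rw [hc]
          refine Eq.trans ?_ h1
          simp [mul_assoc, hbinv]
        exact mul_inv_eq_iff_eq_mul.1 h2
      exact (hca.zpow_right n).symm.eq
    have hbc : s * b * s⁻¹ = b * c := by rw [hc, mul_inv_cancel_left]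
    have hsq : (b * c * b⁻¹) * c = 1 := by
      rw [hbinv, show b * c * b * c = (b * c) ^ 2 by rw [pow_two, mul_assoc, mul_assoc, mul_assoc],
        ← hbc, conj_pow, hb2, mul_one, mul_inv_cancel]
    rw [hbx c hcA] at hsq
    rcases hd c hcA with h | h
    · rw [h, ← pow_two] at hsq
      rcases hu c hcA hsq with h' | h'
      · exact Or.inl (by rw [hbc, h', mul_one])
      · exact Or.inr (by rw [hbc, h'])
    · exfalso
      have hc2 : c ^ 2 = z := by
        rw [h, mul_assoc, ← mem_center_iff.1 hzc c, ← mul_assoc, ← pow_two] at hsq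
        rw [eq_inv_of_mul_eq_one_left hsq]
        exact inv_eq_of_mul_eq_one_right (by rw [← pow_two, hz2])
      rw [mem_center_iff.1 (hfix4 c hcA hc2) t, mul_inv_cancel_right] at h
      exact hz1 (mul_left_cancel (h.symm.trans (mul_one c).symm))
  · push_neg at hu
    obtain ⟨x, hxA, hx2, hx1, hxz⟩ := hu
    let E : Subgroup P :=
      { carrier := {y | y ∈ A ∧ y ^ 2 = 1}
        one_mem' := ⟨one_mem A, one_pow 2⟩
        mul_mem' := fun {a b} ha hb => ⟨mul_mem ha.1 hb.1, by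
          have hc : Commute a b := congrArg Subtype.val (mul_comm' (⟨a, ha.1⟩ : A) ⟨b, hb.1⟩)
          rw [hc.mul_pow, ha.2, hb.2, one_mul]⟩
        inv_mem' := fun {a} ha => ⟨inv_mem ha.1, by rw [inv_pow, ha.2, inv_one]⟩ }
    haveI : E.Normal := ⟨fun y hy g => ⟨hAn.conj_mem y hy.1 g, by
      rw [conj_pow, hy.2, mul_one, mul_inv_cancel]⟩⟩
    haveI : (zpowers z).Normal := ⟨fun y hy g => by
      rw [mem_center_iff.1 ((zpowers_le.2 hzc) hy) g, mul_inv_cancel_right]
      exact hy⟩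
    have hzmem : ∀ y ∈ zpowers z, y = 1 ∨ y = z := by
      intro y hy
      obtain ⟨n, rfl⟩ := mem_powers_iff_mem_zpowers.2 hy
      rcases Nat.even_or_odd' n with ⟨m, rfl | rfl⟩
      · exact Or.inl (by simp [pow_mul, hz2])
      · exact Or.inr (by simp [pow_succ, pow_mul, hz2])
    set q := QuotientGroup.mk' (zpowers z) with hq
    haveI : (E.map q).Normal := Subgroup.Normal.map inferInstance q (QuotientGroup.mk'_surjective _)
    have hne : E.map q ≠ ⊥ := by
      rw [Ne, Subgroup.map_eq_bot_iff, hq, QuotientGroup.ker_mk']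
      intro hle
      rcases hzmem x (hle ⟨hxA, hx2⟩) with h | h
      · exact hx1 h
      · exact hxz h
    obtain ⟨⟨w, hw⟩, hw1⟩ := Subgroup.ne_bot_iff_exists_ne_one.1
      (Cfsg.Lib.Coprime.inf_center_ne_bot (E.map q) hne)
    obtain ⟨⟨f, ⟨hfA, hf2⟩, rfl⟩, hwc⟩ := hw
    have hfz : f ∉ zpowers z := fun h =>
      hw1 (Subtype.ext ((QuotientGroup.eq_one_iff f).2 h))
    refine ⟨f, hf2, fun h => hfz (h.symm ▸ one_mem _), fun h => hfz (h.symm ▸ mem_zpowers z),
      fun s => ?_⟩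
    have hmem : f⁻¹ * (s * f * s⁻¹) ∈ zpowers z := by
      apply (QuotientGroup.eq_one_iff _).1
      change q (f⁻¹ * (s * f * s⁻¹)) = 1
      rw [map_mul, map_mul, map_mul, map_inv, map_inv, mem_center_iff.1 hwc (q s),
        mul_inv_cancel_right, inv_mul_cancel]
    rcases hzmem _ hmem with h | h
    · exact Or.inl (inv_mul_eq_one.1 h).symm
    · exact Or.inr (eq_mul_of_inv_mul_eq h)

end Cfsg.Lib.CyclicInter
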