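import Cfsg.Prelude.Def_CaseTheorems
import Cfsg.Agent.CyclicInter.TwoGroup
import Cfsg.Agent.Blocks.ZStar
import Cfsg.Agent.Coprime.Hall
import Cfsg.Agent.OddChar.PF.OddOrder

/-!
If any two Sylow 2-subgroups of a nonsolvable group meet in a cyclic group, a cyclic normal
2-subgroup is central.
-/

set_option autoImplicit false
set_option linter.style.haveILetI false
set_option linter.unusedSectionVars false

namespace Cfsg.Lib.CyclicInter

open Subgroup Pointwise

variable {G : Type*} [Group G] [Finite G]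

/-- Distinct Sylow 2-subgroups meet in cyclic groups. -/
def CycInter (G : Type*) [Group G] : Prop :=
  ∀ S T : Sylow 2 G, S ≠ T → IsCyclic ↥((S : Subgroup G) ⊓ (T : Subgroup G))

theorem mem_smul_iff (S : Sylow 2 G) (g x : G) : x ∈ g • S ↔ g⁻¹ * x * g ∈ S := by
  have : x ∈ ((g • S : Sylow 2 G) : Subgroup G) ↔ g⁻¹ * x * g ∈ (S : Subgroup G) := by
    rw [Sylow.coe_subgroup_smul, mem_pointwise_smul_iff_inv_smul_mem]
    simp [MulAut.smul_def, mul_assoc]
  exact this

theorem conj_mem_smul (S : Sylow 2 G) (g x : G) (hx : x ∈ S) : g * x * g⁻¹ ∈ g • S :=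
  (mem_smul_iff S g _).2 (by simpa [mul_assoc] using hx)

theorem mem_of_normal {V : Subgroup G} [V.Normal] (hV : IsPGroup 2 V) (S : Sylow 2 G) {x : G}
    (hx : x ∈ V) : x ∈ S := by
  have h : (S : Subgroup G) ⊔ V = (S : Subgroup G) :=
    S.3 (S.2.to_sup_of_normal_right hV) le_sup_left
  exact (h ▸ le_sup_right : V ≤ (S : Subgroup G)) hx

theorem mem_of_fix (S : Sylow 2 G) {x : G} {n : ℕ} (hx : x ^ 2 ^ n = 1) (hfix : x • S = S) :
    x ∈ S := by
  haveI : Fact (Nat.Prime 2) := ⟨Nat.prime_two⟩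
  have h2 : IsPGroup 2 (zpowers x) := by
    obtain ⟨k, -, hk⟩ := (Nat.dvd_prime_pow Nat.prime_two).1 (orderOf_dvd_of_pow_eq_one hx)
    exact IsPGroup.of_card (n := k) (by rw [Nat.card_zpowers, hk])
  have hle : zpowers x ≤ normalizer ((S : Subgroup G) : Set G) :=
    zpowers_le.2 (Sylow.smul_eq_iff_mem_normalizer.1 hfix)
  have := h2.inf_normalizer_sylow S
  rw [inf_eq_left.2 (show zpowers x ≤ normalizer S from hle)] at this
  exact (inf_eq_left.1 this.symm) (mem_zpowers x)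

/-- A normal cyclic 2-subgroup has automorphisms of 2-power order only. -/
theorem exists_pow_mem_centralizer {V : Subgroup G} [V.Normal] (hV : IsPGroup 2 V)
    (hVc : IsCyclic V) (g : G) : ∃ n : ℕ, g ^ 2 ^ n ∈ centralizer (V : Set G) := by
  haveI := hVc
  haveI : Fact (Nat.Prime 2) := ⟨Nat.prime_two⟩
  obtain ⟨k, hk⟩ := hV.exists_card_eq
  have hcard : ∃ m, Nat.card (MulAut V) = 2 ^ m := by
    rw [IsCyclic.card_mulAut, hk]
    rcases Nat.eq_zero_or_pos k with rfl | h0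
    · exact ⟨0, by simp⟩
    · exact ⟨k - 1, by rw [Nat.totient_prime_pow Nat.prime_two h0]; simp⟩
  obtain ⟨m, hm⟩ := hcard
  refine ⟨m, mem_centralizer_iff.2 fun x hx => ?_⟩
  have h1 : (MulAut.conjNormal (g ^ 2 ^ m) : MulAut V) = 1 := by
    rw [map_pow, ← hm, pow_card_eq_one']
  have h2 := congrArg Subtype.val (DFunLike.congr_fun h1 ⟨x, hx⟩)
  rw [MulAut.conjNormal_apply, MulAut.one_apply] at h2
  exact (mul_inv_eq_iff_eq_mul.1 h2).symm

/-- A group with a cyclic Sylow 2-subgroup is solvable. -/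
theorem solvable_of_cyclic (P : Sylow 2 G) (hP : IsCyclic P) : Group.IsSolvable G := by
  haveI : Fact (Nat.Prime 2) := ⟨Nat.prime_two⟩
  by_cases he : 2 ∣ Nat.card G
  · have hc := IsCyclic.isComplement' ((Nat.minFac_eq_two_iff _).2 he) hP
    set K := (MonoidHom.transferSylow P (IsCyclic.normalizer_le_centralizer
      ((Nat.minFac_eq_two_iff _).2 he) hP)).ker with hK
    have hi : K.index = Nat.card P := Subgroup.IsComplement'.index_eq_card (Subgroup.IsComplement'.symm hc)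
    have hodd : Odd (Nat.card K) := by
      refine Nat.not_even_iff_odd.1 fun hev => ?_
      exact (MonoidHom.not_dvd_card_ker_transferSylow P (IsCyclic.normalizer_le_centralizer
        ((Nat.minFac_eq_two_iff _).2 he) hP)) hev.two_dvd
    haveI : Group.IsSolvable K := Cfsg.Agent.PF.isSolvable_of_odd K hodd
    haveI : Group.IsSolvable (G ⧸ K) := by
      have hp : IsPGroup 2 (G ⧸ K) := by
        obtain ⟨k, hk⟩ := P.2.exists_card_eq
        exact IsPGroup.of_card (n := k) (by rw [← Subgroup.index_eq_card, hi, hk])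
      haveI := hp.isNilpotent
      infer_instance
    exact Group.isSolvable_of_ker_le_range K.subtype (QuotientGroup.mk' K) (by simp)
  · exact Cfsg.Agent.PF.isSolvable_of_odd G (Nat.not_even_iff_odd.1 fun h => he h.two_dvd)

/-- A nonsolvable group has more than one Sylow 2-subgroup. -/
theorem exists_ne (hns : ¬ Group.IsSolvable G) (S : Sylow 2 G) : ∃ T : Sylow 2 G, T ≠ S := by
  haveI : Fact (Nat.Prime 2) := ⟨Nat.prime_two⟩
  by_contra h
  push_neg at h
  apply hns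
  haveI : (S : Subgroup G).Normal := ⟨fun x hx g => h (g • S) ▸ conj_mem_smul S g x hx⟩
  haveI : Group.IsSolvable (G ⧸ (S : Subgroup G)) := by
    refine Cfsg.Agent.PF.isSolvable_of_odd _ (Nat.not_even_iff_odd.1 fun hev => ?_)
    rw [← Subgroup.index_eq_card] at hev
    exact S.not_dvd_index hev.two_dvd
  haveI : Group.IsSolvable ↥(S : Subgroup G) := by
    haveI := S.2.isNilpotent
    infer_instance
  exact Group.isSolvable_of_ker_le_range (S : Subgroup G).subtype
    (QuotientGroup.mk' (S : Subgroup G)) (by simp)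

theorem semiconj_dihedral {i j : G} (hi : i * i = 1) (hj : j * j = 1) (m : ℕ) :
    i * (i * j) ^ m = ((i * j) ^ m)⁻¹ * i ∧ j * (i * j) ^ m = ((i * j) ^ m)⁻¹ * j := by
  have hi' : i⁻¹ = i := inv_eq_of_mul_eq_one_right hi
  have hj' : j⁻¹ = j := inv_eq_of_mul_eq_one_right hj
  have h1 : SemiconjBy i (i * j) (i * j)⁻¹ := by
    show i * (i * j) = (i * j)⁻¹ * i
    rw [mul_inv_rev, hi', hj', mul_assoc j i i, hi, mul_one, ← mul_assoc, hi, one_mul]
  have h2 : SemiconjBy j (i * j) (i * j)⁻¹ := by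
    show j * (i * j) = (i * j)⁻¹ * j
    rw [mul_inv_rev, hi', hj', ← mul_assoc]
  refine ⟨?_, ?_⟩
  · rw [← inv_pow]; exact (h1.pow_right m).eq
  · rw [← inv_pow]; exact (h2.pow_right m).eq

/-- Two involutions with product of odd order are interchanged by an involution. -/
theorem swap_of_odd {i j : G} (hi : i * i = 1) (hj : j * j = 1) {n : ℕ} (hn : Odd n)
    (hij : (i * j) ^ n = 1) (C : Subgroup G) (hiC : i ∈ C) (hjC : j ∈ C) :
    ∃ t ∈ C, t * t = 1 ∧ t * i * t⁻¹ = j := by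
  obtain ⟨m, rfl⟩ := hn
  set d := i * j with hd
  have hi' : i⁻¹ = i := inv_eq_of_mul_eq_one_right hi
  obtain ⟨h1, -⟩ := semiconj_dihedral hi hj m
  rw [← hd] at h1
  have htt : d ^ m * i * (d ^ m * i) = 1 := by
    rw [show d ^ m * i * (d ^ m * i) = d ^ m * (i * d ^ m) * i by simp only [mul_assoc], h1,
      ← mul_assoc, mul_inv_cancel, one_mul, hi]
  refine ⟨d ^ m * i, mul_mem (pow_mem (mul_mem hiC hjC) m) hiC, htt, ?_⟩
  have h2 : d ^ (m + m) = d⁻¹ := eq_inv_of_mul_eq_one_left (by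
    rw [← pow_succ, ← hij]
    congr 1
    omega)
  have h3 : i * (d ^ m)⁻¹ = d ^ m * i := by
    rw [mul_inv_eq_iff_eq_mul, mul_assoc, h1, mul_inv_cancel_left]
  rw [mul_inv_rev, hi', show d ^ m * i * i * (i * (d ^ m)⁻¹) = d ^ m * (i * i) * (i * (d ^ m)⁻¹) by
    simp only [mul_assoc], hi, mul_one, h3, ← mul_assoc, ← pow_add, h2, hd, mul_inv_rev, hi',
    inv_eq_of_mul_eq_one_right hj, mul_assoc, hi, mul_one]

theorem le_normalizer_of_forall {W X : Subgroup G} (h : ∀ w ∈ W, ∀ x ∈ X, w * x * w⁻¹ ∈ X) :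
    W ≤ normalizer (X : Set G) := by
  refine fun w hw => Subgroup.mem_normalizer_iff.2 fun x => ⟨h w hw x, fun hx => ?_⟩
  have := h w⁻¹ (inv_mem hw) _ hx
  rwa [inv_inv, show w⁻¹ * (w * x * w⁻¹) * w = x by group] at this

/-- The trace of a Sylow subgroup on a normal subgroup is a Sylow subgroup of it. -/
theorem exists_sylow_trace (S : Sylow 2 G) (C : Subgroup G) [C.Normal] :
    ∃ P : Sylow 2 C, (P : Subgroup C) = (S : Subgroup G).subgroupOf C := by
  haveI : Fact (Nat.Prime 2) := ⟨Nat.prime_two⟩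
  have hp : IsPGroup 2 ((S : Subgroup G).subgroupOf C) := S.2.comap_subtype
  obtain ⟨R, hR⟩ := hp.exists_le_sylow
  obtain ⟨S', hS'⟩ := (R.2.map C.subtype).exists_le_sylow
  obtain ⟨g, rfl⟩ := MulAction.exists_smul_eq G S S'
  refine ⟨R, le_antisymm ?_ hR |>.trans rfl⟩
  apply le_of_eq
  refine (Subgroup.eq_of_le_of_card_ge hR ?_).symm
  refine Nat.card_le_card_of_injective (fun r : (R : Subgroup C) =>
    (⟨⟨g⁻¹ * (r : C) * g, by simpa using (inferInstance : C.Normal).conj_mem _ (r : C).2 g⁻¹⟩,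
      (mem_smul_iff S g _).1 (hS' ⟨(r : C), r.2, rfl⟩)⟩ : (S : Subgroup G).subgroupOf C)) ?_
  intro a b hab
  have := congrArg (fun x : (S : Subgroup G).subgroupOf C => ((x : C) : G)) hab
  simp only at this
  exact Subtype.ext (Subtype.ext (mul_left_cancel (mul_right_cancel this)))

/-- The standing hypotheses: a noncentral cyclic normal 2-subgroup `V`. -/
structure Setup (G : Type*) [Group G] where
  hC : CycInter G
  V : Subgroup G
  hVn : V.Normal
  hV : IsPGroup 2 V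
  hVc : IsCyclic V
  v : G
  hvV : v ∈ V
  hv4 : orderOf v = 4

namespace Setup

variable (D : Setup G)

/-- the centraliser of `V` -/
def C : Subgroup G := centralizer (D.V : Set G)

instance : D.V.Normal := D.hVn

instance : D.C.Normal := by
  unfold C
  haveI := D.hVn
  infer_instance

theorem comm_C {c x : G} (hc : c ∈ D.C) (hx : x ∈ D.V) : Commute c x :=
  (mem_centralizer_iff.1 hc x hx).symm

/-- the involution of `V` -/
def z : G := D.v ^ 2

theorem z_mem : D.z ∈ D.V := pow_mem D.hvV 2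

theorem z_sq : D.z * D.z = 1 := by
  rw [z, ← pow_add]
  exact orderOf_dvd_iff_pow_eq_one.1 (by rw [D.hv4])

theorem z_ne : D.z ≠ 1 := fun h => by
  have := orderOf_dvd_of_pow_eq_one (n := 2) (x := D.v) h
  rw [D.hv4] at this
  exact absurd (Nat.le_of_dvd two_pos this) (by omega)

theorem eq_of_sq {H : Subgroup G} [IsCyclic H] (hz : D.z ∈ H) {x : G} (hx : x ∈ H)
    (h2 : x * x = 1) : x = 1 ∨ x = D.z := by
  classical
  haveI := Fintype.ofFinite ↥H
  by_contra hne
  push_neg at hne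
  have hle := IsCyclic.card_pow_eq_one_le (α := H) (n := 2) two_pos
  have hsub : ({1, ⟨D.z, hz⟩, ⟨x, hx⟩} : Finset H) ⊆ Finset.univ.filter fun a : H => a ^ 2 = 1 := by
    intro a ha
    simp only [Finset.mem_insert, Finset.mem_singleton] at ha
    simp only [Finset.mem_filter, Finset.mem_univ, true_and]
    rcases ha with rfl | rfl | rfl
    · simp
    · exact Subtype.ext (by simp [pow_two, D.z_sq])
    · exact Subtype.ext (by simp [pow_two, h2])
  have h3 : ({1, ⟨D.z, hz⟩, ⟨x, hx⟩} : Finset H).card = 3 := by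
    rw [Finset.card_eq_three]
    exact ⟨_, _, _, fun h => D.z_ne (congrArg Subtype.val h).symm,
      fun h => hne.1 (congrArg Subtype.val h).symm, fun h => hne.2 (congrArg Subtype.val h).symm, rfl⟩
  have := (Finset.card_le_card hsub).trans hle
  omega

theorem conj_z (g : G) : g * D.z * g⁻¹ = D.z := by
  haveI := D.hVc
  refine (D.eq_of_sq D.z_mem (D.hVn.conj_mem _ D.z_mem g) ?_).resolve_left fun h => D.z_ne ?_
  · rw [show g * D.z * g⁻¹ * (g * D.z * g⁻¹) = g * (D.z * D.z) * g⁻¹ by group, D.z_sq, mul_one,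
      mul_inv_cancel]
  · rwa [mul_inv_eq_one, mul_eq_left] at h

theorem z_comm (g : G) : Commute g D.z := mul_inv_eq_iff_eq_mul.1 (D.conj_z g)

theorem V_le (S : Sylow 2 G) {x : G} (hx : x ∈ D.V) : x ∈ S := mem_of_normal D.hV S hx

/-- an involution centralising `V` and outside `V` -/
structure Good (i : G) : Prop where
  sq : i * i = 1
  ne_one : i ≠ 1
  ne_z : i ≠ D.z
  mem : i ∈ D.C

theorem Good.mul_z {i : G} (hi : D.Good i) : D.Good (i * D.z) where
  sq := by
    rw [show i * D.z * (i * D.z) = i * (D.z * i) * D.z by simp only [mul_assoc],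
      (D.z_comm i).symm.eq, ← mul_assoc, hi.sq, one_mul, D.z_sq]
  ne_one := fun h => hi.ne_z (by rw [eq_inv_of_mul_eq_one_left h]; exact inv_eq_of_mul_eq_one_right D.z_sq)
  ne_z := fun h => hi.ne_one (mul_eq_right.1 h)
  mem := mul_mem hi.mem (by
    haveI := D.hVc
    exact Subgroup.le_centralizer D.V D.z_mem)

theorem Good.conj {i : G} (hi : D.Good i) (g : G) : D.Good (g * i * g⁻¹) where
  sq := by rw [show g * i * g⁻¹ * (g * i * g⁻¹) = g * (i * i) * g⁻¹ by group, hi.sq, mul_one,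
    mul_inv_cancel]
  ne_one := fun h => hi.ne_one (by rwa [mul_inv_eq_one, mul_eq_left] at h)
  ne_z := fun h => hi.ne_z (by
    rw [← D.conj_z g] at h
    exact mul_left_cancel (mul_right_cancel h))
  mem := (inferInstance : D.C.Normal).conj_mem i hi.mem g

theorem good_unique {i : G} (hi : D.Good i) {P Q : Sylow 2 G} (hP : i ∈ P) (hQ : i ∈ Q) :
    P = Q := by
  by_contra hne
  haveI := D.hC P Q hne
  rcases D.eq_of_sq (H := (P : Subgroup G) ⊓ (Q : Subgroup G))
    ⟨D.V_le P D.z_mem, D.V_le Q D.z_mem⟩ ⟨hP, hQ⟩ hi.sq with h | h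
  · exact hi.ne_one h
  · exact hi.ne_z h

theorem outer_unique {x : G} (hx : x ∉ D.C) {P Q : Sylow 2 G} (hP : x ∈ P) (hQ : x ∈ Q) :
    P = Q := by
  by_contra hne
  haveI := D.hC P Q hne
  exact hx (mem_centralizer_iff.2 fun y hy => congrArg Subtype.val
    (mul_comm' (⟨y, D.V_le P hy, D.V_le Q hy⟩ : ↥((P : Subgroup G) ⊓ (Q : Subgroup G)))
      ⟨x, hP, hQ⟩))

/-- Good involutions at different points are interchanged, up to `z`, by an involution of `C`. -/
theorem swap {i j : G} (hi : D.Good i) (hj : D.Good j) {P Q : Sylow 2 G} (hP : i ∈ P) (hQ : j ∈ Q)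
    (hne : P ≠ Q) : ∃ t ∈ D.C, t * t = 1 ∧ (t * i * t⁻¹ = j ∨ t * i * t⁻¹ = j * D.z) ∧
      t • P = Q ∧ t • Q = P := by
  have key : ∀ j' : G, D.Good j' → j' ∈ Q → (j' = j ∨ j' = j * D.z) → ∀ n : ℕ, Odd n →
      (i * j') ^ n = 1 → ∃ t ∈ D.C, t * t = 1 ∧ (t * i * t⁻¹ = j ∨ t * i * t⁻¹ = j * D.z) ∧
        t • P = Q ∧ t • Q = P := by
    intro j' hj' hj'Q hor n hn hpow
    obtain ⟨t, htC, htt, hij⟩ := swap_of_odd hi.sq hj'.sq hn hpow D.C hi.mem hj'.mem
    have h1 : t • P = Q := D.good_unique hj' (hij ▸ conj_mem_smul P t i hP) hj'Q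
    refine ⟨t, htC, htt, ?_, h1, ?_⟩
    · rw [hij]; exact hor
    · rw [← h1, smul_smul, htt, one_smul]
  set d := i * j with hd
  set n := orderOf d with hn
  rcases Nat.even_or_odd' n with ⟨n', hn' | hn'⟩
  swap
  · exact key j hj hQ (Or.inl rfl) n ⟨n', hn'⟩ (pow_orderOf_eq_one d)
  have hpos : 0 < n' := by have := orderOf_pos d; omega
  have hn1 : d ^ (n' + n') = 1 := by rw [← two_mul, ← hn']; exact pow_orderOf_eq_one d
  set c := d ^ n' with hc
  have hcc : c * c = 1 := by rw [hc, ← pow_add, hn1]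
  have hcinv : c⁻¹ = c := inv_eq_of_mul_eq_one_right hcc
  obtain ⟨hci, hcj⟩ := semiconj_dihedral hi.sq hj.sq n'
  rw [← hd, ← hc, hcinv] at hci hcj
  have hc1 : c ≠ 1 := fun h => by
    have := Nat.le_of_dvd hpos (orderOf_dvd_of_pow_eq_one (x := d) (n := n') h)
    omega
  have hdC : d ∈ D.C := mul_mem hi.mem hj.mem
  have hcC : c ∈ D.C := pow_mem hdC _
  by_cases hcz : c = D.z
  swap
  · have hgc : D.Good c := ⟨hcc, hc1, hcz, hcC⟩
    have hfix : ∀ (x : G) (R : Sylow 2 G), D.Good x → x ∈ R → x * c = c * x → c ∈ R := by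
      intro x R hx hxR hxc
      refine mem_of_fix R (n := 1) (by rw [pow_one, pow_two, hcc]) (D.good_unique hx ?_ hxR)
      have := conj_mem_smul R c x hxR
      rwa [← hxc, mul_inv_cancel_right] at this
    exact absurd (D.good_unique hgc (hfix i P hi hP hci) (hfix j Q hj hQ hcj)) hne
  rcases Nat.even_or_odd' n' with ⟨h, hh | hh⟩
  · exfalso
    set k := d ^ h with hk
    have hkk : k * k = D.z := by rw [hk, ← pow_add, ← two_mul, ← hh, ← hc, hcz]
    obtain ⟨hki, hkj⟩ := semiconj_dihedral hi.sq hj.sq h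
    rw [← hd, ← hk] at hki hkj
    set w := k * D.v with hw
    have hkC : k ∈ D.C := pow_mem hdC _
    have hkv : Commute k D.v := D.comm_C hkC D.hvV
    have hww : w * w = 1 := by
      rw [hw, show k * D.v * (k * D.v) = k * (D.v * k) * D.v by simp only [mul_assoc], ← hkv.eq,
        show k * (k * D.v) * D.v = (k * k) * (D.v * D.v) by simp only [mul_assoc], hkk, ← pow_two,
        ← z, D.z_sq]
    have hconj : ∀ x : G, D.Good x → x * k = k⁻¹ * x → w * x * w⁻¹ = x * D.z := by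
      intro x hx hkx
      rw [hw, show k * D.v * x * (k * D.v)⁻¹ = k * (D.v * x * D.v⁻¹) * k⁻¹ by group,
        ← (D.comm_C hx.mem D.hvV).eq, mul_inv_cancel_right]
      have h1 : k * x = x * k⁻¹ := by
        rw [eq_mul_inv_iff_mul_eq, mul_assoc, hkx, mul_inv_cancel_left]
      rw [h1, mul_assoc, ← mul_inv_rev, hkk, inv_eq_of_mul_eq_one_right D.z_sq]
    have hwne : ∀ u ∈ D.V, w ≠ u := fun u hu h => by
      have h1 := hconj i hi hki
      rw [h, ← (D.comm_C hi.mem hu).eq, mul_inv_cancel_right] at h1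
      exact D.z_ne (mul_eq_left.1 h1.symm)
    have hgw : D.Good w := ⟨hww, hwne 1 (one_mem _), hwne D.z D.z_mem, mul_mem hkC (by
      haveI := D.hVc
      exact Subgroup.le_centralizer D.V D.hvV)⟩
    have hfix : ∀ (x : G) (R : Sylow 2 G), D.Good x → x ∈ R → x * k = k⁻¹ * x → w ∈ R := by
      intro x R hx hxR hxk
      refine mem_of_fix R (n := 1) (by rw [pow_one, pow_two, hww]) (D.good_unique hx.mul_z ?_ ?_)
      · exact hconj x hx hxk ▸ conj_mem_smul R w x hxR
      · exact mul_mem (s := (R : Subgroup G)) hxR (D.V_le R D.z_mem)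
    exact hne (D.good_unique hgw (hfix i P hi hP hki) (hfix j Q hj hQ hkj))
  · refine key (j * D.z) hj.mul_z (mul_mem (s := (Q : Subgroup G)) hQ (D.V_le Q D.z_mem))
      (Or.inr rfl) n' ⟨h, hh⟩ ?_
    rw [← mul_assoc, ← hd, (D.z_comm d).mul_pow, ← hc, hcz, hh, pow_succ, pow_mul, pow_two,
      D.z_sq, one_pow, one_mul, D.z_sq]

theorem exists_two_part {h : G} (hh : h ∉ D.C) :
    ∃ m n : ℕ, h ^ m ∉ D.C ∧ (h ^ m) ^ 2 ^ n = 1 := by
  obtain ⟨a, m, hm, hord⟩ := Nat.exists_eq_two_pow_mul_odd (orderOf_pos h).ne'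
  refine ⟨m, a, fun hmem => ?_, by rw [← pow_mul, mul_comm, ← hord, pow_orderOf_eq_one]⟩
  apply hh
  obtain ⟨n, hn⟩ := exists_pow_mem_centralizer D.hV D.hVc h
  have h1 : orderOf (QuotientGroup.mk' D.C h) ∣ m :=
    orderOf_dvd_of_pow_eq_one (by rw [← map_pow]; exact (QuotientGroup.eq_one_iff _).2 hmem)
  have h2 : orderOf (QuotientGroup.mk' D.C h) ∣ 2 ^ n :=
    orderOf_dvd_of_pow_eq_one (by rw [← map_pow]; exact (QuotientGroup.eq_one_iff _).2 hn)
  have h3 := Nat.eq_one_of_dvd_coprimes (Nat.Coprime.pow_left n (Nat.coprime_two_left.2 hm)) h2 h1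
  exact (QuotientGroup.eq_one_iff h).1 (orderOf_eq_one_iff.1 h3)

theorem false_of_only (hrad : ∀ N : Subgroup G, N.Normal → Group.IsSolvable N → IsPGroup 2 N)
    {S T : Sylow 2 G} (hT : T ≠ S)
    (hswap : ∀ P' Q' : Sylow 2 G, P' ≠ Q' → ∃ t ∈ D.C, t • P' = Q' ∧ t • Q' = P')
    {e : G} (he : D.Good e) (heS : e ∈ S)
    (honly : ∀ i, D.Good i → i ∈ S → i = e ∨ i = e * D.z) : False := by
  classical
  haveI : Fact (Nat.Prime 2) := ⟨Nat.prime_two⟩
  have heinv : e⁻¹ = e := inv_eq_of_mul_eq_one_right he.sq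
  have hmemS : ∀ x, (x = e ∨ x = e * D.z) → x ∈ S := by
    rintro x (rfl | rfl)
    · exact heS
    · exact mul_mem (s := (S : Subgroup G)) heS (D.V_le S D.z_mem)
  haveI hN₀ : (zpowers D.z).Normal := ⟨fun y hy g => by
    obtain ⟨n, rfl⟩ := mem_zpowers_iff.1 hy
    rw [← conj_zpow, D.conj_z]
    exact zpow_mem (mem_zpowers _) n⟩
  have hzmem : ∀ y ∈ zpowers D.z, y = 1 ∨ y = D.z := by
    intro y hy
    obtain ⟨n, rfl⟩ := mem_powers_iff_mem_zpowers.2 hy
    rcases Nat.even_or_odd' n with ⟨m, rfl | rfl⟩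
    · exact Or.inl (by simp [pow_mul, pow_two, D.z_sq])
    · exact Or.inr (by simp [pow_succ, pow_mul, pow_two, D.z_sq])
  set q := QuotientGroup.mk' (zpowers D.z) with hq
  haveI : (D.C.map q).Normal :=
    Subgroup.Normal.map inferInstance q (QuotientGroup.mk'_surjective _)
  have hq1 : ∀ {x : G}, q x = 1 ↔ x ∈ zpowers D.z := fun {x} => QuotientGroup.eq_one_iff x
  have hqe : q e ≠ 1 := fun h => by
    rcases hzmem _ (hq1.1 h) with h' | h'
    · exact he.ne_one h'
    · exact he.ne_z h'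
  let eb : D.C.map q := ⟨q e, e, he.mem, rfl⟩
  have hiso : IsIsolatedInvolution eb := by
    refine ⟨orderOf_eq_prime (Subtype.ext (by
      show (q e) ^ 2 = 1
      rw [← map_pow, pow_two, he.sq, map_one])) (fun h => hqe (congrArg Subtype.val h)), ?_⟩
    rintro ⟨-, c, hc, rfl⟩ hcomm
    set j := c * e * c⁻¹ with hjdef
    have hcomm' : q e * q j = q j * q e := by
      simpa [hjdef, map_mul, map_inv, eb] using congrArg Subtype.val hcomm.eq
    have hj : D.Good j := he.conj D c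
    have hjej : q (e⁻¹ * (j * e * j⁻¹)) = 1 := by
      rw [map_mul, map_mul, map_mul, ← hcomm', map_inv, map_inv, mul_inv_cancel_right,
        inv_mul_cancel]
    have hje : j * e * j⁻¹ = e ∨ j * e * j⁻¹ = e * D.z := (hzmem _ (hq1.1 hjej)).imp
      (fun h => (inv_mul_eq_one.1 h).symm) (fun h => eq_mul_of_inv_mul_eq h)
    have hjS : j ∈ S := mem_of_fix S (n := 1) (by rw [pow_one, pow_two, hj.sq])
      (D.good_unique (he.conj D j) (conj_mem_smul S j e heS) (hmemS _ hje))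
    apply Subtype.ext
    show q c * q e * (q c)⁻¹ = q e
    rw [← map_inv, ← map_mul, ← map_mul, ← hjdef]
    rcases honly j hj hjS with h | h <;> rw [h]
    rw [map_mul, hq1.2 (mem_zpowers _), mul_one]
  have hz := Cfsg.Lib.Blocks.zstar _ rfl hiso
  set O := (pPrimeCore 2 (D.C.map q)).map (D.C.map q).subtype with hO
  haveI : O.Normal := ConjAct.normal_of_characteristic_of_normal
  have hOcop : (Nat.card O).Coprime 2 := by
    rw [hO, card_map_of_injective (D.C.map q).subtype_injective]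
    exact Cfsg.Lib.Components.coprime_card_pPrimeCore 2
  set M := O.comap q with hM
  haveI : Group.IsSolvable M := by
    set f := q.subgroupComap O with hf
    haveI : Group.IsSolvable O :=
      Cfsg.Agent.PF.isSolvable_of_odd O (Nat.coprime_two_right.1 hOcop)
    haveI : IsMulCommutative ↥((zpowers D.z).subgroupOf M) := inferInstance
    haveI : Group.IsSolvable ↥((zpowers D.z).subgroupOf M) := Group.isSolvable_of_comm (fun a b => mul_comm' a b)
    refine Group.isSolvable_of_ker_le_range ((zpowers D.z).subgroupOf M).subtype f ?_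
    intro x hx
    rw [range_subtype]
    exact hq1.1 (congrArg Subtype.val (MonoidHom.mem_ker.1 hx))
  have hM2 : IsPGroup 2 M := hrad M inferInstance inferInstance
  have hObot : O = ⊥ := by
    have hO2 : IsPGroup 2 O := by
      rw [← map_comap_eq_self_of_surjective (QuotientGroup.mk'_surjective (zpowers D.z)) O]
      exact hM2.map q
    obtain ⟨k, hk⟩ := hO2.exists_card_eq
    rw [hk] at hOcop
    rcases Nat.eq_zero_or_pos k with rfl | h0
    · exact Subgroup.card_eq_one.1 (by rw [hk, pow_zero])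
    · rw [Nat.coprime_pow_left_iff h0] at hOcop
      norm_num at hOcop
  have hcentral : ∀ c ∈ D.C, c * e * c⁻¹ = e ∨ c * e * c⁻¹ = e * D.z := by
    intro c hc
    have h1 := hz ⟨q c, c, hc, rfl⟩
    have h2 : q (e * c * e⁻¹ * c⁻¹) ∈ O := ⟨_, h1, by simp [eb]⟩
    rw [hObot, mem_bot, hq1] at h2
    have h3 : c * e * c⁻¹ = e * (e * c * e⁻¹ * c⁻¹) := by
      simp only [← mul_assoc, heinv, he.sq, one_mul]
    rcases hzmem _ h2 with h | h <;> rw [h3, h]
    · exact Or.inl (mul_one e)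
    · exact Or.inr rfl
  obtain ⟨t, ht, h1, -⟩ := hswap S T (Ne.symm hT)
  refine hT ?_
  rw [← h1]
  exact D.good_unique (he.conj D t) (conj_mem_smul S t e heS) (hmemS _ (hcentral t ht))

theorem false_of_setup (hns : ¬ Group.IsSolvable G)
    (hrad : ∀ N : Subgroup G, N.Normal → Group.IsSolvable N → IsPGroup 2 N)
    (hnc : D.C ≠ ⊤) : False := by
  classical
  haveI : Fact (Nat.Prime 2) := ⟨Nat.prime_two⟩
  obtain ⟨S⟩ : Nonempty (Sylow 2 G) := inferInstance
  -- a good involution at `S` fixed modulo `z` by `S ∩ C`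
  set S₁ := (S : Subgroup G) ⊓ D.C with hS₁
  have hvS : D.v ∈ S₁ := ⟨D.V_le S D.hvV, by
    haveI := D.hVc
    exact Subgroup.le_centralizer D.V D.hvV⟩
  obtain ⟨P, hP⟩ : ∃ P : Sylow 2 D.C, (P : Subgroup D.C) = (S : Subgroup G).subgroupOf D.C :=
    exists_sylow_trace S D.C
  have hP2 : IsPGroup 2 S₁ := S.2.to_le inf_le_left
  have hS₁nc : ¬ IsCyclic S₁ := by
    intro hcyc
    apply hns
    haveI : Group.IsSolvable D.C := by
      refine solvable_of_cyclic P ?_
      rw [hP, ← Subgroup.inf_subgroupOf_right]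
      exact isCyclic_of_surjective (subgroupOfEquivOfLe (inf_le_right : S₁ ≤ D.C)).symm
        (MulEquiv.surjective _)
    haveI : Group.IsSolvable (G ⧸ D.C) := by
      have hp : IsPGroup 2 (G ⧸ D.C) := fun x => by
        obtain ⟨g, rfl⟩ := QuotientGroup.mk_surjective x
        obtain ⟨n, hn⟩ := exists_pow_mem_centralizer D.hV D.hVc g
        exact ⟨n, (QuotientGroup.eq_one_iff _).2 hn⟩
      haveI := hp.isNilpotent
      infer_instance
    exact Group.isSolvable_of_ker_le_range D.C.subtype (QuotientGroup.mk' D.C) (by simp)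
  obtain ⟨f', hf2, hf1, hfz, hff⟩ := exists_involution_fixed_mod hP2 hS₁nc
    (v := ⟨D.v, hvS⟩) (mem_center_iff.2 fun x => Subtype.ext (D.comm_C x.2.2 D.hvV))
    (by rw [← Subgroup.orderOf_coe]; exact D.hv4)
  obtain ⟨f, hfS₁⟩ := f'
  have hfix : ∀ s ∈ S₁, s * f * s⁻¹ = f ∨ s * f * s⁻¹ = f * D.z := fun s hs =>
    (hff ⟨s, hs⟩).imp (congrArg Subtype.val) (congrArg Subtype.val)
  have hf : D.Good f := ⟨by simpa [pow_two] using congrArg Subtype.val hf2,
    fun h => hf1 (Subtype.ext h), fun h => hfz (Subtype.ext (by simpa [z] using h)), hfS₁.2⟩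
  have hfS : f ∈ S := hfS₁.1
  have hgood_at : ∀ R : Sylow 2 G, ∃ i, D.Good i ∧ i ∈ R := fun R => by
    obtain ⟨g, rfl⟩ := MulAction.exists_smul_eq G S R
    exact ⟨g * f * g⁻¹, hf.conj D g, conj_mem_smul S g f hfS⟩
  have hswap : ∀ P' Q' : Sylow 2 G, P' ≠ Q' → ∃ t ∈ D.C, t • P' = Q' ∧ t • Q' = P' := by
    intro P' Q' hne
    obtain ⟨i, hi, hiP⟩ := hgood_at P'
    obtain ⟨j, hj, hjQ⟩ := hgood_at Q'
    obtain ⟨t, ht, -, -, h1, h2⟩ := D.swap hi hj hiP hjQ hne
    exact ⟨t, ht, h1, h2⟩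
  -- no element outside `C` interchanges two points
  have hA : ∀ g : G, g ∉ D.C → ∀ R : Sylow 2 G, g • g • R = R → g • R = R := by
    intro g hg R hgg
    by_contra hne
    obtain ⟨t, htC, ht1, ht2⟩ := hswap _ _ (Ne.symm hne)
    have hh : t * g ∉ D.C := fun h => hg ((D.C.mul_mem_cancel_left htC).1 h)
    obtain ⟨m, n, hm, hmn⟩ := D.exists_two_part hh
    have hfixR : (t * g) • R = R := by rw [mul_smul, ht2]
    have hfixR' : (t * g) • g • R = g • R := by rw [mul_smul, hgg, ht1]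
    have hp : ∀ (X : Sylow 2 G), (t * g) • X = X → (t * g) ^ m • X = X := fun X hX =>
      MulAction.mem_stabilizer_iff.1 (pow_mem (MulAction.mem_stabilizer_iff.2 hX) m)
    exact hne (D.outer_unique hm (mem_of_fix _ hmn (hp _ hfixR)) (mem_of_fix _ hmn (hp _ hfixR'))).symm
  -- an element `g` of `S` outside `C` with square in `C` normalising a complement
  have hSC : ¬ (S : Subgroup G) ≤ D.C := by
    intro hle
    apply hnc
    rw [eq_top_iff]
    intro g _
    obtain ⟨n, hn⟩ := exists_pow_mem_centralizer D.hV D.hVc g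
    have h1 : orderOf (QuotientGroup.mk' D.C g) ∣ D.C.index := by
      rw [Subgroup.index_eq_card]; exact orderOf_dvd_natCard _
    have h2 : orderOf (QuotientGroup.mk' D.C g) ∣ 2 ^ n :=
      orderOf_dvd_of_pow_eq_one (by rw [← map_pow]; exact (QuotientGroup.eq_one_iff _).2 hn)
    have hcop : (2 ^ n).Coprime D.C.index := Nat.Coprime.pow_left n
      ((Nat.Prime.coprime_iff_not_dvd Nat.prime_two).2 fun h2d =>
        S.not_dvd_index (h2d.trans (Subgroup.index_dvd_of_le hle)))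
    exact (QuotientGroup.eq_one_iff g).1
      (orderOf_eq_one_iff.1 (Nat.eq_one_of_dvd_coprimes hcop h2 h1))
  obtain ⟨y₀, hy₀S, hy₀C⟩ := SetLike.not_le_iff_exists.1 hSC
  obtain ⟨k₀, hy1, hy2⟩ := exists_first_pow S.2 (D.C.subgroupOf (S : Subgroup G))
    (x := ⟨y₀, hy₀S⟩) (by simpa [mem_subgroupOf] using hy₀C)
  set y := y₀ ^ 2 ^ k₀ with hy
  have hyS : y ∈ S := pow_mem hy₀S _
  have hyC : y ∉ D.C := by simpa [mem_subgroupOf] using hy1
  have hy2C : y ^ 2 ∈ D.C := by simpa [mem_subgroupOf] using hy2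
  set H := D.C ⊓ normalizer ((S : Subgroup G) : Set G) with hH
  have hS₁H : S₁ ≤ H := fun x hx => ⟨hx.2, Subgroup.le_normalizer hx.1⟩
  have hnS₁ : ∀ x ∈ normalizer ((S : Subgroup G) : Set G), ∀ s ∈ S₁, x * s * x⁻¹ ∈ S₁ :=
    fun x hx s hs => ⟨(Subgroup.mem_normalizer_iff.1 hx s).1 hs.1,
      (inferInstance : D.C.Normal).conj_mem s hs.2 x⟩
  haveI : (S₁.subgroupOf H).Normal := ⟨fun s hs h => hnS₁ h h.2.2 s hs⟩
  have hcop : (Nat.card (S₁.subgroupOf H)).Coprime (S₁.subgroupOf H).index := by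
    obtain ⟨k, hk⟩ := hP2.exists_card_eq
    rw [Nat.card_congr (subgroupOfEquivOfLe hS₁H).toEquiv, hk]
    refine Nat.Coprime.pow_left k ((Nat.Prime.coprime_iff_not_dvd Nat.prime_two).2 fun h2 => ?_)
    have h3 : S₁.relIndex H ∣ S₁.relIndex D.C :=
      ⟨H.relIndex D.C, (relIndex_mul_relIndex S₁ H D.C hS₁H inf_le_left).symm⟩
    have hP' := P.not_dvd_index
    rw [hP, ← Subgroup.inf_subgroupOf_right] at hP'
    exact hP' (h2.trans h3)
  obtain ⟨W', hW'⟩ := Subgroup.exists_right_complement'_of_coprime hcop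
  set W := W'.map H.subtype with hW
  have hWH : W ≤ H := map_subtype_le W'
  have hHeq : ∀ x ∈ H, ∃ s ∈ S₁, ∃ w ∈ W, x = s * w := by
    intro x hx
    obtain ⟨⟨s, w⟩, hsw⟩ := hW'.2 ⟨x, hx⟩
    exact ⟨s.1.1, s.2, w.1.1, ⟨w.1, w.2, rfl⟩, (congrArg Subtype.val hsw).symm⟩
  have hdis : ∀ x ∈ S₁, x ∈ W → x = 1 := by
    rintro x hx ⟨w, hw, rfl⟩
    have : w ∈ (⊥ : Subgroup H) := hW'.disjoint.le_bot ⟨hx, hw⟩
    rw [mem_bot.1 this]; simp
  have hcard : (Nat.card S₁).Coprime (Nat.card W) := by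
    rw [Nat.card_congr (subgroupOfEquivOfLe hS₁H).toEquiv, Subgroup.IsComplement'.index_eq_card (Subgroup.IsComplement'.symm hW')] at hcop
    rwa [hW, card_map_of_injective H.subtype_injective]
  have hWn : W ≤ normalizer (S₁ : Set G) :=
    Cfsg.Lib.CyclicInter.le_normalizer_of_forall fun w hw s hs => hnS₁ w (hWH hw).2 s hs
  have hyN : y ∈ normalizer ((S : Subgroup G) : Set G) := Subgroup.le_normalizer hyS
  obtain ⟨s₀, hs₀, hWeq⟩ := Cfsg.Lib.Coprime.exists_conj_eq_of_coprime hWn hcard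
    (Or.inl (by haveI := hP2.isNilpotent; infer_instance))
    (K := W.map (MulAut.conj y).toMonoidHom) (by
      rintro - ⟨w, hw, rfl⟩
      obtain ⟨s, hs, w', hw', he⟩ := hHeq (y * w * y⁻¹)
        ⟨(inferInstance : D.C.Normal).conj_mem w (hWH hw).1 y,
          (normalizer ((S : Subgroup G) : Set G)).mul_mem ((normalizer ((S : Subgroup G) : Set G)).mul_mem hyN (hWH hw).2) ((normalizer ((S : Subgroup G) : Set G)).inv_mem hyN)⟩
      change y * w * y⁻¹ ∈ S₁ ⊔ W
      rw [he]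
      exact mul_mem (mem_sup_left hs) (mem_sup_right hw'))
    (card_map_of_injective (MulAut.conj y).injective)
  set g := s₀⁻¹ * y with hg
  have hgS : g ∈ S := (S : Subgroup G).mul_mem ((S : Subgroup G).inv_mem hs₀.1) hyS
  have hgC : g ∉ D.C := fun h => hyC ((D.C.mul_mem_cancel_left (inv_mem hs₀.2)).1 h)
  have hg2C : g ^ 2 ∈ D.C := by
    have hsC : QuotientGroup.mk' D.C s₀ = 1 := (QuotientGroup.eq_one_iff _).2 hs₀.2
    refine (QuotientGroup.eq_one_iff _).1 ?_
    change QuotientGroup.mk' D.C (g ^ 2) = 1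
    rw [map_pow, hg, map_mul, map_inv, hsC, inv_one, one_mul, ← map_pow]
    exact (QuotientGroup.eq_one_iff _).2 hy2C
  have hgW : ∀ w ∈ W, g * w * g⁻¹ ∈ W := by
    intro w hw
    have h1 : y * w * y⁻¹ ∈ W.map (MulAut.conj s₀).toMonoidHom := by
      have h0 : y * w * y⁻¹ ∈ W.map (MulAut.conj y).toMonoidHom := ⟨w, hw, rfl⟩
      rwa [hWeq] at h0
    obtain ⟨w', hw', he⟩ := h1
    have he' : s₀ * w' * s₀⁻¹ = y * w * y⁻¹ := he
    rw [hg, show s₀⁻¹ * y * w * (s₀⁻¹ * y)⁻¹ = s₀⁻¹ * (y * w * y⁻¹) * s₀ by group, ← he',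
      show s₀⁻¹ * (s₀ * w' * s₀⁻¹) * s₀ = w' by group]
    exact hw'
  obtain ⟨T, hT⟩ := exists_ne hns S
  have hg2V : g ^ 2 ∉ D.V := by
    intro h
    have h1 : g • g • T = T := by
      rw [smul_smul, ← pow_two]
      exact Sylow.smul_eq_iff_mem_normalizer.2 (Subgroup.le_normalizer (D.V_le T h))
    obtain ⟨n, hn⟩ := S.2 ⟨g, hgS⟩
    exact hT (D.outer_unique hgC (mem_of_fix T (by simpa using congrArg Subtype.val hn)
      (hA g hgC T h1)) hgS)
  have hg2S : g ^ 2 ∈ S₁ := ⟨pow_mem hgS 2, hg2C⟩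
  have hg2W : ∀ w ∈ W, Commute (g ^ 2) w := by
    intro w hw
    have h1 : g ^ 2 * w * (g ^ 2)⁻¹ ∈ W := by
      rw [show g ^ 2 * w * (g ^ 2)⁻¹ = g * (g * w * g⁻¹) * g⁻¹ by
        simp only [pow_two, mul_inv_rev, mul_assoc]]
      exact hgW _ (hgW _ hw)
    have h2 : g ^ 2 * w * (g ^ 2)⁻¹ * w⁻¹ ∈ S₁ := by
      rw [show g ^ 2 * w * (g ^ 2)⁻¹ * w⁻¹ = g ^ 2 * (w * (g ^ 2)⁻¹ * w⁻¹) by group]
      exact mul_mem hg2S (hnS₁ w (hWH hw).2 _ (inv_mem hg2S))
    have := hdis _ h2 (mul_mem h1 (inv_mem hw))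
    exact mul_inv_eq_iff_eq_mul.1 (mul_inv_eq_one.1 this)
  -- a good involution at `S` centralised by `W`
  obtain ⟨n₁, he1, he2⟩ := exists_first_pow hP2 (D.V.subgroupOf S₁)
    (x := ⟨g ^ 2, hg2S⟩) (by simpa [mem_subgroupOf] using hg2V)
  set e₀ := (g ^ 2) ^ 2 ^ n₁ with he₀
  have he₀V : e₀ ∉ D.V := by simpa [mem_subgroupOf] using he1
  have he₀2 : e₀ ^ 2 ∈ D.V := by simpa [mem_subgroupOf] using he2
  have he₀g : Commute g e₀ := (((Commute.refl g).pow_right 2).pow_right _)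
  obtain ⟨u, huV, hu⟩ : ∃ u ∈ D.V, u ^ 2 = e₀ ^ 2 := by
    haveI := D.hVc
    obtain ⟨a, ha⟩ := IsCyclic.exists_generator (α := D.V)
    obtain ⟨n, hn⟩ := mem_powers_iff_mem_zpowers.2 (ha ⟨e₀ ^ 2, he₀2⟩)
    simp only at hn
    rcases Nat.even_or_odd' n with ⟨l, rfl | rfl⟩
    · exact ⟨(a ^ l : D.V), SetLike.coe_mem _, by
        rw [← Subgroup.coe_pow, ← pow_mul, mul_comm, hn]⟩
    · exfalso
      apply hgC
      refine mem_centralizer_iff.2 fun x hx => ?_
      have hgen : a ∈ zpowers (⟨e₀ ^ 2, he₀2⟩ : D.V) := by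
        rw [← hn]
        exact odd_pow_generates D.hV a ⟨l, rfl⟩
      obtain ⟨i, hi⟩ := mem_zpowers_iff.1 ((zpowers_le.2 hgen) (ha ⟨x, hx⟩))
      rw [show x = (e₀ ^ 2) ^ i from (congrArg Subtype.val hi).symm]
      exact ((he₀g.pow_right 2).zpow_right i).symm.eq
  set e := e₀ * u⁻¹ with he
  have he₀S : e₀ ∈ S₁ := pow_mem hg2S _
  have huS : u ∈ S₁ := ⟨D.V_le S huV, by
    haveI := D.hVc
    exact Subgroup.le_centralizer D.V huV⟩
  have hgoode : D.Good e := by
    have hcu : Commute e₀ u := D.comm_C he₀S.2 huV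
    have hne : ∀ x ∈ D.V, e ≠ x := fun x hx h => he₀V (by
      have := mul_mem hx huV
      rwa [← h, he, inv_mul_cancel_right] at this)
    refine ⟨?_, hne 1 (one_mem _), hne D.z D.z_mem, mul_mem he₀S.2 (inv_mem huS.2)⟩
    rw [← pow_two, he, hcu.inv_right.mul_pow, inv_pow, hu, mul_inv_cancel]
  have heS : e ∈ S := mul_mem (s := (S : Subgroup G)) he₀S.1 ((S : Subgroup G).inv_mem huS.1)
  have heW : ∀ w ∈ W, Commute w e := fun w hw =>
    Commute.mul_right (((hg2W w hw).symm).pow_right _)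
      ((D.comm_C (hWH hw).1 huV).inv_right)
  -- so `e` and `e z` are the only good involutions at `S`
  obtain ⟨j, hj, hjT⟩ := hgood_at T
  have horbit : ∀ i, D.Good i → i ∈ S → ∃ w ∈ W,
      w * i * w⁻¹ = f ∨ w * i * w⁻¹ = f * D.z := by
    intro i hi hiS
    obtain ⟨t₁, ht₁, -, hh1, hp1, -⟩ := D.swap hi hj hiS hjT (Ne.symm hT)
    obtain ⟨t₂, ht₂, -, hh2, hp2, -⟩ := D.swap hj hf hjT hfS hT
    have hc : (t₂ * t₁) * i * (t₂ * t₁)⁻¹ = f ∨ (t₂ * t₁) * i * (t₂ * t₁)⁻¹ = f * D.z := by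
      rw [show (t₂ * t₁) * i * (t₂ * t₁)⁻¹ = t₂ * (t₁ * i * t₁⁻¹) * t₂⁻¹ by group]
      rcases hh1 with h1 | h1 <;> rw [h1]
      · exact hh2
      · rw [show t₂ * (j * D.z) * t₂⁻¹ = (t₂ * j * t₂⁻¹) * (t₂ * D.z * t₂⁻¹) by group, D.conj_z]
        rcases hh2 with h2 | h2 <;> rw [h2]
        · exact Or.inr rfl
        · exact Or.inl (by rw [mul_assoc, D.z_sq, mul_one])
    have hmem : t₂ * t₁ ∈ H := ⟨mul_mem ht₂ ht₁,
      Sylow.smul_eq_iff_mem_normalizer.1 (by rw [mul_smul, hp1, hp2])⟩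
    obtain ⟨s, hs, w, hw, hsw⟩ := hHeq _ hmem
    refine ⟨w, hw, ?_⟩
    rw [hsw] at hc
    have hrw : w * i * w⁻¹ = s⁻¹ * (s * w * i * (s * w)⁻¹) * (s⁻¹)⁻¹ := by group
    rcases hc with h | h <;> rw [hrw, h]
    · exact hfix s⁻¹ (inv_mem hs)
    · rw [show s⁻¹ * (f * D.z) * (s⁻¹)⁻¹ = (s⁻¹ * f * (s⁻¹)⁻¹) * (s⁻¹ * D.z * (s⁻¹)⁻¹) by group,
        D.conj_z]
      rcases hfix s⁻¹ (inv_mem hs) with h' | h' <;> rw [h']
      · exact Or.inr rfl
      · exact Or.inl (by rw [mul_assoc, D.z_sq, mul_one])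
  have hfe : f = e ∨ f = e * D.z := by
    obtain ⟨w, hw, h⟩ := horbit e hgoode heS
    rw [(heW w hw).eq, mul_inv_cancel_right] at h
    rcases h with h | h
    · exact Or.inl h.symm
    · exact Or.inr (by rw [h, mul_assoc, D.z_sq, mul_one])
  have honly : ∀ i, D.Good i → i ∈ S → i = e ∨ i = e * D.z := by
    intro i hi hiS
    obtain ⟨w, hw, h⟩ := horbit i hi hiS
    have hwe : w⁻¹ * e * w = e := by
      rw [mul_assoc, ← (heW w hw).eq, inv_mul_cancel_left]
    have hwz : w⁻¹ * D.z * w = D.z := by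
      rw [mul_assoc, ← (D.z_comm w).eq, inv_mul_cancel_left]
    have key : ∀ x, (x = e ∨ x = e * D.z) → w⁻¹ * x * w = e ∨ w⁻¹ * x * w = e * D.z := by
      rintro x (rfl | rfl)
      · exact Or.inl hwe
      · exact Or.inr (by
          rw [show w⁻¹ * (e * D.z) * w = (w⁻¹ * e * w) * (w⁻¹ * D.z * w) by group, hwe, hwz])
    have hi' : i = w⁻¹ * (w * i * w⁻¹) * w := by group
    rw [hi']
    refine key _ ?_
    rcases h with h | h <;> rw [h]
    · exact hfe
    · rcases hfe with h' | h' <;> rw [h']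
      · exact Or.inr rfl
      · exact Or.inl (by rw [mul_assoc, D.z_sq, mul_one])
  -- so `e` is isolated in `C / ⟨z⟩`
  exact D.false_of_only hrad hT hswap hgoode heS honly

end Setup

end Cfsg.Lib.CyclicInter
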